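import Groth.Agent.SubSheafExt.Generators
import Groth.Agent.ModGroth.FinLocFree
import Groth.Agent.QCohLib.FiniteType
import Groth.Agent.QCohLib.Cover
import Groth.Prelude.Def_PerfAux

/-!
# The resolution property ascends along affine morphisms
-/

set_option autoImplicit false
universe u
open CategoryTheory CategoryTheory.Limits AlgebraicGeometry Opposite TopologicalSpace

namespace Groth.Agent.ResAffine

open SubSheafExt

variable {X Y : Scheme.{u}} (f : X ⟶ Y) [IsAffineHom f]

include f in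
theorem hasResolution [CompactSpace ↥Y] [QuasiSeparatedSpace ↥Y]
    (hY : PerfAux.HasResolutionProperty Y) : PerfAux.HasResolutionProperty X := by
  classical
  intro M hM hft
  haveI : M.IsQuasicoherent := hM
  let N := (Scheme.Modules.pushforward f).obj M
  haveI : N.IsQuasicoherent := QCohLib.isQuasicoherent_pushforward f
  obtain ⟨κ, hκ, V, hV, -, hsup⟩ :=
    QCohLib.exists_finite_affine_cover (X := Y) (U := ⊤) CompactSpace.isCompact_univ
  have hfin : ∀ a, ∃ T : Finset Γ(M, f ⁻¹ᵁ V a),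
      Submodule.span Γ(X, f ⁻¹ᵁ V a) (T : Set Γ(M, f ⁻¹ᵁ V a)) = ⊤ := fun a =>
    (QCohLib.finite_sections M hft ((hV a).preimage f)).fg_top
  choose T hT using hfin
  have hgen : ∀ p : (Σ a, {t // t ∈ T a}), ∃ S : Sub N, GenOn S ⊤ ∧
      ∀ (y : Y) (hy : y ∈ V p.1), N.presheaf.germ (V p.1) y hy (p.2.1 : Γ(N, V p.1)) ∈ S y :=
    fun p => exists_gen_of_section_qcqs (hV p.1) _
  choose S hS hSt using hgen
  let G : Sub N := fun y => (Finset.univ : Finset (Σ a, {t // t ∈ T a})).sup fun p => S p y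
  have hG : GenOn G ⊤ := genOn_finset_sup Finset.univ S fun p _ => hS p
  obtain ⟨E, π, hE, hπ⟩ := hY (toModule N G) (isQuasicoherent_toModule hG) (isFiniteType_toModule hG)
  let adj := Scheme.Modules.pullbackPushforwardAdjunction f
  let ψ : E ⟶ (Scheme.Modules.pushforward f).obj M := π ≫ toModuleι N G
  let φ := (adj.homEquiv E M).symm ψ
  have hψ : adj.unit.app E ≫ (Scheme.Modules.pushforward f).map φ = ψ := by
    refine Eq.trans ?_ ((adj.homEquiv E M).apply_symm_apply ψ)
    exact (Adjunction.homEquiv_unit adj _ _ φ).symm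
  refine ⟨_, φ, ModGroth.Perf.isFinLocFree_pullback f hE, ?_⟩
  rw [QCohLib.epi_iff_stalk_surjective]
  intro x m
  obtain ⟨a, ha⟩ := Opens.mem_iSup.mp (hsup (Opens.mem_top (f x)))
  have key : ∀ t ∈ T a, M.presheaf.germ (f ⁻¹ᵁ V a) x ha t ∈
      LinearMap.range (QCohLib.stalkLinearMap φ x) := by
    intro t ht
    have htG : (t : Γ(N, V a)) ∈ sectSub N G (V a) := fun y hy =>
      Finset.le_sup (f := fun p => S p y) (Finset.mem_univ (⟨a, t, ht⟩ : Σ a, {t // t ∈ T a}))
        (hSt ⟨a, t, ht⟩ y hy)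
    obtain ⟨V', hle, ⟨e, he⟩, hxV⟩ :=
      (QCohLib.epi_iff_locally_surjective π).1 hπ (V a) ⟨t, htG⟩ (f x) ha
    have h2 : ψ.app V' e = N.presheaf.map (homOfLE hle).op t := congrArg Subtype.val he
    have h3 : φ.app (f ⁻¹ᵁ V') ((adj.unit.app E).app V' e) =
        M.presheaf.map (homOfLE (show f ⁻¹ᵁ V' ≤ f ⁻¹ᵁ V a from fun z hz => hle hz)).op t := by
      refine Eq.trans ?_ h2
      exact congrArg (fun g : E ⟶ (Scheme.Modules.pushforward f).obj M => g.app V' e) hψ
    refine ⟨((Scheme.Modules.pullback f).obj E).presheaf.germ (f ⁻¹ᵁ V') x hxV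
      ((adj.unit.app E).app V' e), ?_⟩
    rw [QCohLib.stalkLinearMap_apply, QCohLib.stalkHom_germ, h3]
    exact TopCat.Presheaf.germ_res_apply M.presheaf _ x hxV t
  obtain ⟨c, s, hxc, hcs⟩ := QCohLib.exists_smul_eq_germ ((hV a).preimage f) x ha m
  have hu : IsUnit (X.presheaf.germ (f ⁻¹ᵁ V a) x ha c) := (X.mem_basicOpen c x ha).1 hxc
  have hmem : ∀ s' : Γ(M, f ⁻¹ᵁ V a), M.presheaf.germ (f ⁻¹ᵁ V a) x ha s' ∈
      LinearMap.range (QCohLib.stalkLinearMap φ x) := by
    intro s'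
    have hs' : s' ∈ Submodule.span Γ(X, f ⁻¹ᵁ V a) (T a : Set Γ(M, f ⁻¹ᵁ V a)) := hT a ▸ Submodule.mem_top
    induction hs' using Submodule.span_induction with
    | mem t ht => exact key t ht
    | zero => rw [map_zero]; exact zero_mem _
    | add p q _ _ hp hq => rw [map_add]; exact add_mem hp hq
    | smul r p _ hp => rw [QCohLib.germ_smul]; exact Submodule.smul_mem _ _ hp
  have hm : m ∈ LinearMap.range (QCohLib.stalkLinearMap φ x) := by
    obtain ⟨v, hv⟩ := hu
    have := Submodule.smul_mem _ ((↑v⁻¹ : X.presheaf.stalk x)) (hmem s)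
    rwa [← hcs, ← hv, smul_smul, Units.inv_mul, one_smul] at this
  exact hm

end Groth.Agent.ResAffine
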